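import Mathlib
import Groth.Prelude.Def_MoreMor
import Groth.Agent.S0388
import Groth.Agent.S1327
import Groth.Agent.H18Et.SpectralProfinite
import Groth.Agent.H28NT.GoodReduction
import Groth.Agent.H21Taylor.GeomInt
import Groth.Agent.H19Grp.AbSchemeRigid

/-!
# Proper smooth morphisms with a section and connected source have connected fibres
-/

set_option autoImplicit false
set_option linter.style.haveILetI false
set_option backward.isDefEq.respectTransparency false
set_option backward.isDefEq.respectTransparency.types false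

universe u

open CategoryTheory CategoryTheory.Limits AlgebraicGeometry TopologicalSpace

namespace Groth.Agent.H14AbSch

/-- The spectrum of an integral algebra over a field is totally disconnected. -/
theorem totallyDisconnected_of_isIntegralHom {k : CommRingCat.{u}} (hk : IsField k) {Y : Scheme.{u}}
    (p : Y ⟶ Spec k) [IsIntegralHom p] : TotallyDisconnectedSpace Y := by
  haveI : IsAffine Y := isAffine_of_isAffineHom p
  obtain ⟨φ, hφ⟩ : ∃ φ : k ⟶ Γ(Y, ⊤), Spec.map φ = Y.isoSpec.inv ≫ p := Spec.map_surjective _
  haveI : IsIntegralHom (Spec.map φ) := by rw [hφ]; infer_instance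
  have hint : φ.hom.IsIntegral := (IsIntegralHom.SpecMap_iff).1 this
  haveI : T1Space (Spec Γ(Y, ⊤)) := by
    refine ⟨fun q => (PrimeSpectrum.isClosed_singleton_iff_isMaximal q).2 ?_⟩
    letI := φ.hom.toAlgebra
    haveI : Algebra.IsIntegral k Γ(Y, ⊤) := ⟨hint⟩
    letI := hk.toField
    refine Ideal.isMaximal_of_isIntegral_of_isMaximal_comap (R := k) q.asIdeal ?_
    rw [(Ideal.eq_bot_or_top (q.asIdeal.comap (algebraMap k Γ(Y, ⊤)))).resolve_right
      (Ideal.comap_ne_top _ q.2.ne_top)]
    exact Ideal.bot_isMaximal
  haveI : T1Space (PrimeSpectrum Γ(Y, ⊤)) := ‹T1Space (Spec Γ(Y, ⊤))›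
  haveI := H18Et.totallySeparated_of_t1 (X := PrimeSpectrum Γ(Y, ⊤))
  haveI : TotallyDisconnectedSpace (Spec Γ(Y, ⊤)) :=
    (inferInstance : TotallyDisconnectedSpace (PrimeSpectrum Γ(Y, ⊤)))
  exact Y.isoSpec.hom.homeomorph.symm.totallyDisconnectedSpace

/-- Fibres of an integral morphism contain no connected set with two points. -/
theorem subsingleton_of_isPreconnected {Y S : Scheme.{u}} (g : Y ⟶ S) [IsIntegralHom g] (s : S)
    {C : Set Y} (hC : _root_.IsPreconnected C) (hs : C ⊆ g ⁻¹' {s}) : C.Subsingleton := by
  haveI : IsIntegralHom (g.fiberToSpecResidueField s) := MorphismProperty.pullback_snd _ _ inferInstance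
  haveI := totallyDisconnected_of_isIntegralHom (Field.toIsField (S.residueField s))
    (g.fiberToSpecResidueField s)
  haveI : TotallyDisconnectedSpace (g ⁻¹' {s}) := (g.fiberHomeo s).totallyDisconnectedSpace
  have hC' : _root_.IsPreconnected (Subtype.val ⁻¹' C : Set (g ⁻¹' {s})) := by
    rw [← Topology.IsInducing.subtypeVal.isPreconnected_image, Subtype.image_preimage_coe,
      Set.inter_eq_right.2 hs]
    exact hC
  exact fun a ha b hb => congrArg Subtype.val (hC'.subsingleton (x := ⟨a, hs ha⟩) ha (y := ⟨b, hs hb⟩) hb)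

/-- Proper smooth morphisms with connected source and a section have connected fibres. -/
theorem connectedSpace_fiber {X S : Scheme.{u}} (f : X ⟶ S) [Smooth f] [IsProper f] [ConnectedSpace X]
    (σ : S ⟶ X) (hσ : σ ≫ f = 𝟙 S) (s : S) : ConnectedSpace (f.fiber s) := by
  let ν := f.toNormalization
  let g := f.fromNormalization
  let σ' : S ⟶ f.normalization := σ ≫ ν
  have hσ' : σ' ≫ g = 𝟙 S := by
    change (σ ≫ f.toNormalization) ≫ f.fromNormalization = _
    rw [Category.assoc, f.toNormalization_fromNormalization, hσ]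
  haveI : GeometricallyConnected ν := (Groth.Agent.S0388.result f).1
  have hfσ : ∀ t, f (σ t) = t := fun t => by rw [← Scheme.Hom.comp_apply, hσ]; rfl
  have hfν : ∀ x, g (ν x) = f x := fun x => by
    rw [← Scheme.Hom.comp_apply]; exact congr($(f.toNormalization_fromNormalization) x)
  have hsub : ∀ t : S, ν ⁻¹' {σ' t} ⊆ f ⁻¹' {t} := fun t x (hx : ν x = σ' t) => by
    change f x = t
    rw [← hfν, hx, ← Scheme.Hom.comp_apply, hσ']; rfl
  have heq : ∀ t : S, connectedComponentIn (f ⁻¹' {t}) (σ t) = ν ⁻¹' {σ' t} := fun t => by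
    refine subset_antisymm (fun x hx => ?_) ?_
    · have hC : _root_.IsPreconnected (ν '' connectedComponentIn (f ⁻¹' {t}) (σ t)) :=
        isPreconnected_connectedComponentIn.image _ ν.continuous.continuousOn
      exact subsingleton_of_isPreconnected g t hC (by
          rintro _ ⟨y, hy, rfl⟩
          show g (ν y) = t
          exact (hfν y).trans (connectedComponentIn_subset (f ⁻¹' {t}) (σ t) hy))
        ⟨x, hx, rfl⟩ ⟨σ t, mem_connectedComponentIn (show f (σ t) = t from hfσ t), rfl⟩
    · exact (ν.isConnected_preimage_singleton (σ' t)).isPreconnected.subset_connectedComponentIn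
        (show ν (σ t) = σ' t from rfl) (hsub t)
  haveI : IsClosedImmersion (σ' ≫ g) := by rw [hσ']; infer_instance
  haveI : IsClosedImmersion σ' := .of_comp σ' g
  let Z : Set X := ν ⁻¹' Set.range σ'
  have hclosed : IsClosed Z := σ'.isClosedEmbedding.isClosed_range.preimage ν.continuous
  have hZ : ∀ x ∈ Z, x ∈ connectedComponentIn (f ⁻¹' {f x}) (σ (f x)) := by
    rintro x ⟨t, ht⟩
    obtain rfl : f x = t := hsub t ht.symm
    rw [heq]
    exact ht.symm
  have hopen : IsOpen Z := isOpen_iff_forall_mem_open.2 fun x hx => by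
    haveI : GeometricallyReduced (f.fiberToSpecResidueField (f x)) := by
      haveI : Smooth (f.fiberToSpecResidueField (f x)) := MorphismProperty.pullback_snd _ _ inferInstance
      exact H19Grp.geometricallyReduced_of_smooth_hom _
    refine ⟨interior (MoreMor.sectionComponents f σ), fun y hy => ?_, isOpen_interior,
      Groth.Agent.S1327.result f σ hσ (f x) inferInstance (hZ x hx)⟩
    have hy' : y ∈ connectedComponentIn (f ⁻¹' {f y}) (σ (f y)) :=
      (interior_subset hy : y ∈ MoreMor.sectionComponents f σ)
    rw [heq] at hy'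
    exact ⟨f y, hy'.symm⟩
  have huniv : Z = Set.univ := IsClopen.eq_univ ⟨hclosed, hopen⟩ ⟨σ s, s, rfl⟩
  have hconn : _root_.IsConnected (f ⁻¹' {s}) := by
    rw [show f ⁻¹' {s} = connectedComponentIn (f ⁻¹' {s}) (σ s) from subset_antisymm
      (fun x (hx : f x = s) => hx ▸ hZ x (huniv ▸ Set.mem_univ x)) (connectedComponentIn_subset _ _)]
    exact isConnected_connectedComponentIn_iff.2 (hfσ s)
  haveI : ConnectedSpace (f ⁻¹' {s}) := isConnected_iff_connectedSpace.1 hconn
  exact (f.fiberHomeo s).symm.surjective.connectedSpace (f.fiberHomeo s).symm.continuous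

/-- Proper smooth morphisms with connected source and a section have geometrically integral fibres. -/
theorem geometricallyIntegral_of_section {X S : Scheme.{u}} (f : X ⟶ S) [Smooth f] [IsProper f] [ConnectedSpace X]
    (σ : S ⟶ X) (hσ : σ ≫ f = 𝟙 S) : GeometricallyIntegral f := by
  haveI : GeometricallyConnected f := by
    rw [GeometricallyConnected.iff_geometricallyConnected_fiber]
    intro s
    haveI := connectedSpace_fiber f σ hσ s
    exact H28NT.geometricallyConnected_of_section (f.fiberToSpecResidueField s)
      (pullback.lift (S.fromSpecResidueField s ≫ σ) (𝟙 _) (by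
        rw [Category.assoc, hσ, Category.comp_id, Category.id_comp]))
      (pullback.lift_snd _ _ _)
  refine H21Taylor.geometricallyIntegral_of_smooth f fun s => ?_
  haveI : GeometricallyConnected (pullback.snd f (Red.geomPt s)) := inferInstance
  haveI : Nonempty ↥(pullback f (Red.geomPt s)) := inferInstance
  exact GeometricallyConnected.connectedSpace_of_subsingleton (pullback.snd f (Red.geomPt s))

end Groth.Agent.H14AbSch
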